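import Cfsg.Agent.Lib.PrimeHalf.Triples
import Mathlib.GroupTheory.GroupAction.MultipleTransitivity

/-!
# Consequences: four orbits of a two-point stabiliser
-/

set_option autoImplicit false

namespace Cfsg.Agent.Lib.PrimeHalf

open MulAction Finset

variable {G Ω : Type*} [Group G] [MulAction G Ω] {p : ℕ} [hp : Fact p.Prime]

/-- Transitivity of one two-point stabiliser on the other points gives triple transitivity. -/
theorem three_transitive_of_tri (h2 : IsMultiplyPretransitive G Ω 2) {α β : Ω} (hαβ : α ≠ β)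
    (h : ∀ x y : Ω, x ≠ α → x ≠ β → y ≠ α → y ≠ β → Tri G x α β y α β) :
    IsMultiplyPretransitive G Ω 3 := by
  refine ⟨fun x y => ?_⟩
  obtain ⟨g, hg0, hg1⟩ := is_two_pretransitive_iff.mp h2
    (x.injective.ne (show (0 : Fin 3) ≠ 1 by decide)) hαβ
  obtain ⟨k, hk0, hk1⟩ := is_two_pretransitive_iff.mp h2
    (y.injective.ne (show (0 : Fin 3) ≠ 1 by decide)) hαβ
  have hne : ∀ (z : Fin 3 ↪ Ω) (g : G), g • z 0 = α → g • z 1 = β → g • z 2 ≠ α ∧ g • z 2 ≠ β :=
    fun z g h0 h1 => ⟨h0 ▸ fun e => absurd (z.injective (smul_left_cancel g e)) (by decide),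
      h1 ▸ fun e => absurd (z.injective (smul_left_cancel g e)) (by decide)⟩
  obtain ⟨t, ht, hta, htb⟩ := h (g • x 2) (k • y 2) (hne x g hg0 hg1).1 (hne x g hg0 hg1).2
    (hne y k hk0 hk1).1 (hne y k hk0 hk1).2
  refine ⟨k⁻¹ * t * g, ?_⟩
  ext i
  fin_cases i
  · show (k⁻¹ * t * g) • x 0 = y 0
    rw [mul_smul, mul_smul, hg0, hta, inv_smul_eq_iff, hk0]
  · show (k⁻¹ * t * g) • x 1 = y 1
    rw [mul_smul, mul_smul, hg1, htb, inv_smul_eq_iff, hk1]
  · show (k⁻¹ * t * g) • x 2 = y 2
    rw [mul_smul, mul_smul, ht, inv_smul_eq_iff]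

variable [Fintype Ω]

theorem seven_le [FaithfulSMul G Ω] (hΩ : Fintype.card Ω = p) (htrans : IsPretransitive G Ω)
    (hins : ¬ Group.IsSolvable G) (hp3 : p % 4 = 3) : 7 ≤ p := by
  have := isPretransitive_range (G := G) (Ω := Ω) htrans
  have h5 := Lib.Perm.PrimeDegree.five_le_of_not_solvable hΩ (toPermHom G Ω).range
    (not_isSolvable_range hins)
  omega

/-- Either triply transitive, or four orbits of the stabiliser of any two points. -/
theorem three_or_four (h2 : IsMultiplyPretransitive G Ω 2) {e : ZMod p ≃ Ω} (he : Coord G e)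
    (hp3 : p % 4 = 3) (hp7 : 7 ≤ p) {α β : Ω} (hαβ : α ≠ β) :
    IsMultiplyPretransitive G Ω 3 ∨
      Nat.card (MulAction.orbitRel.Quotient ↥(stabilizer G α ⊓ stabilizer G β) Ω) = 4 := by
  classical
  refine or_iff_not_imp_left.mpr fun h3 => ?_
  obtain ⟨x, y, hxa, hxb, hya, hyb, hxy⟩ : ∃ x y : Ω, x ≠ α ∧ x ≠ β ∧ y ≠ α ∧ y ≠ β ∧
      ¬ Tri G x α β y α β := by
    by_contra! hall
    exact h3 (three_transitive_of_tri h2 hαβ hall)
  set H := stabilizer G α ⊓ stabilizer G β
  have hfix : ∀ {z w : Ω}, orbitRel H Ω z w → Tri G w α β z α β := by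
    rintro z w ⟨⟨g, hga, hgb⟩, rfl⟩
    exact ⟨g, rfl, hga, hgb⟩
  have hmk : ∀ {z w : Ω}, (Quotient.mk (orbitRel H Ω) z) = Quotient.mk _ w → Tri G w α β z α β :=
    fun h => hfix (Quotient.exact h)
  have hof : ∀ {z w : Ω}, Tri G w α β z α β → (Quotient.mk (orbitRel H Ω) z) = Quotient.mk _ w := by
    rintro z w ⟨g, rfl, hga, hgb⟩
    exact Quotient.sound ⟨⟨g, hga, hgb⟩, rfl⟩
  let f : Fin 4 → MulAction.orbitRel.Quotient H Ω := fun i =>
    Quotient.mk _ (![α, β, x, y] i)
  have hbij : Function.Bijective f := by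
    refine ⟨fun i j hij => ?_, fun q => ?_⟩
    · have h := hmk hij
      have hn := Tri.ne h
      obtain ⟨g, hg, hga, hgb⟩ := id h
      fin_cases i <;> fin_cases j <;> simp at h hn hg ⊢
      all_goals first
        | exact hαβ (smul_left_cancel g (hga.trans hg.symm)).symm
        | exact hαβ (smul_left_cancel g (hgb.trans hg.symm))
        | exact hxa (smul_left_cancel g (hg.trans hga.symm))
        | exact hxb (smul_left_cancel g (hg.trans hgb.symm))
        | exact hya (smul_left_cancel g (hg.trans hga.symm))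
        | exact hyb (smul_left_cancel g (hg.trans hgb.symm))
        | exact hxa (hg.symm.trans hga)
        | exact hxb (hg.symm.trans hgb)
        | exact hya (hg.symm.trans hga)
        | exact hyb (hg.symm.trans hgb)
        | exact hxy h.symm
        | exact hxy h
        | exact hαβ (hga.symm.trans hg)
        | exact hαβ (hg.symm.trans hgb)
    · obtain ⟨z, rfl⟩ := Quotient.exists_rep q
      rcases eq_or_ne z α with rfl | hza
      · exact ⟨0, rfl⟩
      rcases eq_or_ne z β with rfl | hzb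
      · exact ⟨1, rfl⟩
      rcases tri_two h2 he hp3 hp7 hαβ hxa hxb hya hyb hza hzb with h | h | h
      · exact absurd h hxy
      · exact ⟨2, (hof h).symm⟩
      · exact ⟨3, (hof h).symm⟩
  rw [← Nat.card_congr (Equiv.ofBijective f hbij), Nat.card_fin]

end Cfsg.Agent.Lib.PrimeHalf
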