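import Cfsg.Agent.Lib.PrimeHalf.Triples

/-!
# No invariant triple system

A totally symmetric invariant line relation, with transitivity on the non-collinear triples, is
impossible for `p > 7`: it would be a Netto system, and two explicit triangles differ.
-/

set_option autoImplicit false

namespace Cfsg.Agent.Lib.PrimeHalf

open MulAction Finset

variable {G Ω : Type*} [Group G] [MulAction G Ω] {p : ℕ} [hp : Fact p.Prime]

/-- An invariant proper linear space on which the group has one orbit on non-collinear triples. -/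
structure LineSys (G : Type*) {Ω : Type*} [Group G] [MulAction G Ω] (Col : Ω → Ω → Ω → Prop) :
    Prop where
  inv : ∀ (g : G) a b c, Col (g • a) (g • b) (g • c) ↔ Col a b c
  ne : ∀ {a b c}, Col a b c → a ≠ b ∧ a ≠ c ∧ b ≠ c
  swap : ∀ {a b c}, Col a b c → Col a c b
  rotate : ∀ {a b c}, Col a b c → Col b c a
  line : ∀ {a a' b c}, Col a b c → Col a' b c → a ≠ a' → Col a' b a
  exists_col : ∀ {b c}, b ≠ c → ∃ a, Col a b c
  exists_not : ∀ {b c}, b ≠ c → ∃ a, a ≠ b ∧ a ≠ c ∧ ¬ Col a b c
  tri : ∀ {a a' b c}, b ≠ c → a ≠ b → a ≠ c → a' ≠ b → a' ≠ c → ¬ Col a b c → ¬ Col a' b c →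
    Tri G a b c a' b c

theorem sq_mul {a b : ZMod p} (ha : a ≠ 0) (hb : b ≠ 0) :
    IsSquare (a * b) ↔ (IsSquare a ↔ IsSquare b) := by
  have hA := quadraticChar_one_iff_isSquare ha
  have hB := quadraticChar_one_iff_isSquare hb
  have hAB := quadraticChar_one_iff_isSquare (mul_ne_zero ha hb)
  rw [map_mul] at hAB
  rw [← hA, ← hB, ← hAB]
  rcases quadraticChar_dichotomy ha with h | h <;> rcases quadraticChar_dichotomy hb with h' | h' <;>
    simp [h, h']

/-- The third point of the triple system with parameter `u`. -/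
noncomputable def third (u b c : ZMod p) : ZMod p := by
  classical exact if IsSquare (c - b) then b + u * (c - b) else c + u * (b - c)

theorem third_sq {u b c : ZMod p} (h : IsSquare (c - b)) : third u b c = b + u * (c - b) := by
  simp [third, h]

theorem third_not_sq {u b c : ZMod p} (h : ¬ IsSquare (c - b)) :
    third u b c = c + u * (b - c) := by simp [third, h]

theorem natCast_ne_zero {n : ℕ} (h0 : 0 < n) (hn : n < p) : (n : ZMod p) ≠ 0 := fun h =>
  absurd (Nat.le_of_dvd h0 ((ZMod.natCast_eq_zero_iff n p).mp h)) (by omega)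

section

variable [Fintype Ω] {e : ZMod p ≃ Ω} (he : Coord G e) {Col : Ω → Ω → Ω → Prop}
  (hC : LineSys G Col) (h2 : IsMultiplyPretransitive G Ω 2) (hp3 : p % 4 = 3) (hp7 : 7 < p)

include he hC h2 hp3 hp7

/-- The lines have three points, given by one parameter. -/
theorem exists_param : ∃ u : ZMod p, u ^ 2 - u + 1 = 0 ∧ ¬ IsSquare u ∧
    ∀ a b c : ZMod p, b ≠ c → (Col (e a) (e b) (e c) ↔ a = third u b c) := by
  classical
  let D : Ω → Ω → Ω → ZMod p := fun a b c => if a ≠ b ∧ a ≠ c ∧ b ≠ c then 1 else 0
  obtain ⟨b₀, c₀, hbc₀⟩ : ∃ x y : ZMod p, x ≠ y := ⟨0, 1, zero_ne_one⟩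
  set k : ℕ := (univ.filter fun a => Col a (e b₀) (e c₀)).card with hk
  have hcount : ∀ {b c : Ω}, b ≠ c → (univ.filter fun a => Col a b c).card = k := fun h =>
    count_const h2 Col hC.inv h (e.injective.ne hbc₀)
  let W : Ω → Ω → Ω → ZMod p := fun a b c => 2 * (if Col a b c then 1 else 0) + k * D a b c
  have hW : ∀ (g : G) a b c, W (g • a) (g • b) (g • c) = W a b c := fun g a b c => by
    simp only [W, D, hC.inv, ne_eq, smul_left_cancel_iff]
  have hWsym : ∀ a b c, W a b c = W a c b := fun a b c => by
    have h1 : Col a b c ↔ Col a c b := ⟨hC.swap, hC.swap⟩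
    have h2' : D a b c = D a c b := by simp only [D]; exact if_congr (by tauto) rfl rfl
    simp only [W, h1, h2']
  have hcard2 : ∀ {b c : Ω}, b ≠ c →
      (((univ.filter fun a => a ≠ b ∧ a ≠ c ∧ b ≠ c).card : ℕ) : ZMod p) = -2 := by
    intro b c hne
    rw [show (univ.filter fun a => a ≠ b ∧ a ≠ c ∧ b ≠ c) = univ \ {b, c} by
      ext a; simp [hne]]
    rw [Finset.card_sdiff, Finset.inter_univ, Finset.card_pair hne, Finset.card_univ,
      ← Fintype.card_congr e, ZMod.card, Nat.cast_sub (by omega), ZMod.natCast_self]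
    simp
  have hrow : ∀ b c : ZMod p, b ≠ c → ∑ j, W (e j) (e b) (e c) = 0 := by
    intro b c hne
    have hne' : e b ≠ e c := e.injective.ne hne
    rw [Equiv.sum_comp e (fun a => W a (e b) (e c))]
    simp only [W, D, Finset.sum_add_distrib, ← Finset.mul_sum, Finset.sum_boole, hcount hne',
      hcard2 hne']
    ring
  set x := moment e W 0 1 with hx
  let L : ZMod p → ZMod p → Finset (ZMod p) := fun b c =>
    univ.filter fun a => a = b ∨ a = c ∨ Col (e a) (e b) (e c)
  have hLsplit : ∀ {b c : ZMod p}, b ≠ c → L b c =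
      insert b (insert c (univ.filter fun a => Col (e a) (e b) (e c))) := fun _ => by
    ext a; simp [L]
  have hLnot : ∀ {b c : ZMod p}, b ≠ c →
      b ∉ insert c (univ.filter fun a => Col (e a) (e b) (e c)) ∧
      c ∉ univ.filter fun a => Col (e a) (e b) (e c) := fun hne => by
    refine ⟨?_, fun h => (hC.ne (Finset.mem_filter.mp h).2).2.1 rfl⟩
    simp only [Finset.mem_insert, Finset.mem_filter, Finset.mem_univ, true_and, not_or]
    exact ⟨hne, fun h => (hC.ne h).1 rfl⟩
  have hLcard : ∀ {b c : ZMod p}, b ≠ c → (L b c).card = k + 2 := by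
    intro b c hne
    rw [hLsplit hne, Finset.card_insert_of_notMem (hLnot hne).1,
      Finset.card_insert_of_notMem (hLnot hne).2, ← hcount (e.injective.ne hne),
      Finset.card_equiv e (t := univ.filter fun a => Col a (e b) (e c)) fun a => by simp]
  have hK : ((k + 2 : ℕ) : ZMod p) ≠ 0 := by
    refine natCast_ne_zero (by omega) ?_
    obtain ⟨a, hab, hac, ha⟩ := hC.exists_not (e.injective.ne hbc₀)
    refine lt_of_lt_of_eq ?_ (Finset.card_univ.trans (ZMod.card p))
    rw [← hLcard hbc₀]
    refine Finset.card_lt_card (Finset.ssubset_iff_subset_ne.mpr ⟨Finset.subset_univ _, fun h => ?_⟩)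
    have : e.symm a ∈ L b₀ c₀ := h ▸ Finset.mem_univ _
    simp only [L, Finset.mem_filter, Equiv.apply_symm_apply] at this
    rcases this.2 with h' | h' | h'
    · exact hab (by rw [← h', Equiv.apply_symm_apply])
    · exact hac (by rw [← h', Equiv.apply_symm_apply])
    · exact ha h'
  set K : ZMod p := ((k + 2 : ℕ) : ZMod p) with hKdef
  have hmom : ∀ {b c : ZMod p}, b ≠ c →
      sabs (c - b) * x = 2 * (∑ a ∈ L b c, a) - K * (b + c) := by
    intro b c hne
    rw [hx, ← moment_symm he W hW hp3 hrow hWsym hne]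
    have h1 : ∑ j : ZMod p, j * D (e j) (e b) (e c) = -b - c := by
      have : ∀ j : ZMod p, j * D (e j) (e b) (e c) =
          j - (if j = b then b else 0) - (if j = c then c else 0) := fun j => by
        by_cases h₁ : j = b
        · subst h₁; simp [D, hne]
        · by_cases h₂ : j = c
          · subst h₂; simp [D, hne.symm]
          · simp [D, h₁, h₂, hne]
      simp only [this, Finset.sum_sub_distrib, Finset.sum_ite_eq', Finset.mem_univ, if_true,
        sum_id_eq_zero (p := p) (by omega), zero_sub]
    rw [hLsplit hne, Finset.sum_insert (hLnot hne).1, Finset.sum_insert (hLnot hne).2,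
      Finset.sum_filter]
    unfold moment
    simp only [W, mul_add, Finset.sum_add_distrib, mul_left_comm _ (k : ZMod p), ← Finset.mul_sum,
      h1, mul_ite, mul_one, mul_zero, hKdef]
    push_cast
    rw [← sub_eq_zero]
    ring_nf
    simp [Finset.sum_mul, ite_mul]
  have hLeq : ∀ {a b c : ZMod p}, Col (e a) (e b) (e c) → L b c = L b a := by
    intro a b c h
    ext z
    simp only [L, Finset.mem_filter, Finset.mem_univ, true_and]
    constructor
    · rintro (rfl | rfl | hz)
      · exact Or.inl rfl
      · exact Or.inr (Or.inr (hC.swap (hC.rotate (hC.rotate h))))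
      · rcases eq_or_ne z a with rfl | hza
        · exact Or.inr (Or.inl rfl)
        · exact Or.inr (Or.inr (hC.line h hz (e.injective.ne hza.symm)))
    · rintro (rfl | rfl | hz)
      · exact Or.inl rfl
      · exact Or.inr (Or.inr h)
      · rcases eq_or_ne z c with rfl | hzc
        · exact Or.inr (Or.inl rfl)
        · exact Or.inr (Or.inr (hC.line (hC.swap (hC.rotate (hC.rotate h))) hz
            (e.injective.ne hzc.symm)))
  have hA : ∀ {a b c : ZMod p}, Col (e a) (e b) (e c) →
      x * (sabs (c - b) - sabs (a - b)) = K * (a - c) := by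
    intro a b c h
    obtain ⟨hab, -, hbc⟩ := hC.ne h
    have e1 := hmom (b := b) (c := c) fun h => hbc (congrArg e h)
    have e2 := hmom (b := b) (c := a) fun h => hab (congrArg e h).symm
    rw [hLeq h] at e1
    linear_combination e1 - e2
  have hB : ∀ {a b c : ZMod p}, Col (e a) (e b) (e c) →
      x * (sabs (c - b) - sabs (a - c)) = K * (a - b) := by
    intro a b c h
    have := hA (hC.swap h)
    have hbc : b ≠ c := fun h' => (hC.ne h).2.2 (congrArg e h')
    have hs : sabs (b - c) = sabs (c - b) := by
      have hz : c - b ≠ 0 := sub_ne_zero.mpr hbc.symm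
      by_cases h' : IsSquare (c - b)
      · rw [sabs_of_sq h', sabs_of_not_sq]
        · ring
        · rw [← neg_sub c b, isSquare_neg_iff hp3 hz]; exact not_not.mpr h'
      · rw [sabs_of_not_sq h', sabs_of_sq]
        · ring
        · rw [← neg_sub c b, isSquare_neg_iff hp3 hz]; exact h'
    rwa [hs] at this
  have htwo : (2 : ZMod p) ≠ 0 := by
    simpa using natCast_ne_zero (p := p) (n := 2) two_pos (by omega)
  have hopp : ∀ {a b c : ZMod p}, Col (e a) (e b) (e c) →
      ¬ (IsSquare (a - b) ↔ IsSquare (c - b)) := by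
    intro a b c h hiff
    obtain ⟨hab, hac, hbc⟩ := hC.ne h
    have hab' : a - b ≠ 0 := sub_ne_zero.mpr fun h => hab (congrArg e h)
    have hac' : a - c ≠ 0 := sub_ne_zero.mpr fun h => hac (congrArg e h)
    have hbc' : c - b ≠ 0 := sub_ne_zero.mpr fun h => hbc (congrArg e h).symm
    have e1 := hA h
    have e2 := hB h
    have hx0 : x ≠ 0 := fun hx0 => by
      rw [hx0, zero_mul] at e2
      exact mul_ne_zero hK hab' e2.symm
    by_cases hs : IsSquare (c - b)
    · rw [sabs_of_sq hs, sabs_of_sq (hiff.mpr hs)] at e1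
      rw [sabs_of_sq hs] at e2
      have hK' : K = -x := mul_right_cancel₀ hac' (by linear_combination -e1)
      rw [hK'] at e2
      by_cases hs' : IsSquare (a - c)
      · rw [sabs_of_sq hs'] at e2
        exact mul_ne_zero (mul_ne_zero hx0 htwo) hbc' (by linear_combination e2)
      · rw [sabs_of_not_sq hs'] at e2
        exact mul_ne_zero (mul_ne_zero hx0 htwo) hab' (by linear_combination e2)
    · rw [sabs_of_not_sq hs, sabs_of_not_sq fun h => hs (hiff.mp h)] at e1
      rw [sabs_of_not_sq hs] at e2
      have hK' : K = x := mul_right_cancel₀ hac' (by linear_combination -e1)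
      rw [hK'] at e2
      by_cases hs' : IsSquare (a - c)
      · rw [sabs_of_sq hs'] at e2
        exact mul_ne_zero (mul_ne_zero hx0 htwo) hab' (by linear_combination -e2)
      · rw [sabs_of_not_sq hs'] at e2
        exact mul_ne_zero (mul_ne_zero hx0 htwo) hbc' (by linear_combination -e2)
  set u : ZMod p := (K + x) / (K - x) with hu
  have hform : ∀ {a b c : ZMod p}, Col (e a) (e b) (e c) → IsSquare (c - b) →
      a = b + u * (c - b) := by
    intro a b c h hs
    have hbc' : c - b ≠ 0 := sub_ne_zero.mpr fun h' => (hC.ne h).2.2 (congrArg e h').symm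
    have hns : ¬ IsSquare (a - b) := fun h' => hopp h (iff_of_true h' hs)
    have e1 := hA h
    rw [sabs_of_sq hs, sabs_of_not_sq hns] at e1
    have hKx : K - x ≠ 0 := fun h' => by
      have : (c - b) * (2 * K) = 0 := by linear_combination e1 + (a - 2 * b + c) * h'
      rcases mul_eq_zero.mp this with h'' | h''
      · exact hbc' h''
      · exact mul_ne_zero htwo hK h''
    rw [hu]
    field_simp
    linear_combination -e1
  have hthird : ∀ {a b c : ZMod p}, Col (e a) (e b) (e c) → a = third u b c := by
    intro a b c h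
    have hz : c - b ≠ 0 := sub_ne_zero.mpr fun h' => (hC.ne h).2.2 (congrArg e h').symm
    by_cases hs : IsSquare (c - b)
    · rw [third_sq hs]; exact hform h hs
    · rw [third_not_sq hs]
      exact hform (hC.swap h) (by rw [← neg_sub c b, isSquare_neg_iff hp3 hz]; exact hs)
  have hcol : ∀ b c : ZMod p, b ≠ c → Col (e (third u b c)) (e b) (e c) := by
    intro b c hne
    obtain ⟨a, ha⟩ := hC.exists_col (e.injective.ne hne)
    obtain ⟨a, rfl⟩ := e.surjective a
    rwa [← hthird ha]
  have h10 : IsSquare ((1 : ZMod p) - 0) := by rw [sub_zero]; exact ⟨1, (mul_one _).symm⟩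
  have hu1 : Col (e u) (e 0) (e 1) := by
    have := hcol 0 1 zero_ne_one
    rwa [third_sq h10, sub_zero, mul_one, zero_add] at this
  have huns : ¬ IsSquare u := fun h =>
    hopp hu1 (iff_of_true (by rwa [sub_zero]) h10)
  have hrot : (0 : ZMod p) = third u 1 u := hthird (hC.rotate hu1)
  refine ⟨u, ?_, huns, fun a b c hne => ⟨hthird, fun h => h ▸ hcol b c hne⟩⟩
  by_cases hs : IsSquare (u - 1)
  · rw [third_sq hs] at hrot
    linear_combination -hrot
  · exfalso
    rw [third_not_sq hs] at hrot
    have hu0 : u ≠ 0 := fun h => (hC.ne hu1).1 (congrArg e h)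
    have : u * (2 - u) = 0 := by linear_combination -hrot
    have hu2 : u = 2 := (sub_eq_zero.mp ((mul_eq_zero.mp this).resolve_left hu0)).symm
    rw [hu2] at hs
    exact hs ⟨1, by norm_num⟩

end

section Triangles

variable [Fintype Ω] {e : ZMod p ≃ Ω} {Col : Ω → Ω → Ω → Prop} (hC : LineSys G Col)
  (hp3 : p % 4 = 3) (hp7 : 7 < p)

include hC hp3 hp7

omit [Fintype Ω] in
/-- Two explicit triangles differ. -/
theorem false_of_param {u : ZMod p} (hu : u ^ 2 - u + 1 = 0) (huns : ¬ IsSquare u)
    (h2u : IsSquare (2 - u))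
    (hcol : ∀ a b c : ZMod p, b ≠ c → (Col (e a) (e b) (e c) ↔ a = third u b c)) : False := by
  have n2 : (2 : ZMod p) ≠ 0 := by simpa using natCast_ne_zero (p := p) (n := 2) two_pos (by omega)
  have n3 : (3 : ZMod p) ≠ 0 := by simpa using natCast_ne_zero (p := p) (n := 3) (by omega) (by omega)
  have n7 : (7 : ZMod p) ≠ 0 := by simpa using natCast_ne_zero (p := p) (n := 7) (by omega) hp7
  have n1 : (1 : ZMod p) ≠ 0 := one_ne_zero
  have m1 : ¬ IsSquare (-1 : ZMod p) := not_isSquare_neg_one hp3
  have u0 : u ≠ 0 := fun h => n1 (by linear_combination hu - (u - 1) * h)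
  have um1 : u + 1 ≠ 0 := fun h => n3 (by linear_combination hu - (u - 2) * h)
  have u1 : 1 - u ≠ 0 := fun h => n1 (by linear_combination hu + u * h)
  have u2 : 2 - u ≠ 0 := fun h => n3 (by linear_combination hu + (u + 1) * h)
  have hneg : ∀ {z : ZMod p}, z ≠ 0 → (IsSquare (-z) ↔ ¬ IsSquare z) := isSquare_neg_iff hp3
  have s1u : ¬ IsSquare (1 - u) := fun h => by
    have : IsSquare (u * (1 - u)) := ⟨1, by linear_combination -hu⟩
    exact huns (((sq_mul u0 u1).mp this).mpr h)
  have s21 : IsSquare (2 * u - 1) := by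
    have h := (sq_mul (neg_ne_zero.mpr u1) u2).mpr (iff_of_true ((hneg u1).mpr s1u) h2u)
    rwa [show -(1 - u) * (2 - u) = 2 * u - 1 by linear_combination -hu] at h
  have s3 : ¬ IsSquare (3 : ZMod p) := fun h => by
    have : IsSquare (-3 : ZMod p) := ⟨2 * u - 1, by linear_combination -4 * hu⟩
    exact (hneg n3).mp this h
  have sp1 : ¬ IsSquare (u + 1) := fun h => by
    have := (sq_mul um1 u2).mpr (iff_of_true h h2u)
    rw [show (u + 1) * (2 - u) = 3 by linear_combination -hu] at this
    exact s3 this
  -- transport along the group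
  have key : ∀ (g : G) {x y : ZMod p}, x ≠ y →
      third u (e.symm (g • e x)) (e.symm (g • e y)) = e.symm (g • e (third u x y)) := by
    intro g x y hxy
    have hne : e.symm (g • e x) ≠ e.symm (g • e y) := fun h =>
      hxy (e.injective (smul_left_cancel g (e.symm.injective h)))
    symm
    rw [← hcol _ _ _ hne]
    simp only [Equiv.apply_symm_apply, hC.inv]
    exact (hcol _ _ _ hxy).mpr rfl
  have h10 : IsSquare ((1 : ZMod p) - 0) := by rw [sub_zero]; exact ⟨1, (mul_one _).symm⟩
  have c01 : third u 0 1 = u := by rw [third_sq h10]; ring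
  have hmove : ∀ {d d' : ZMod p}, d ≠ 0 → d ≠ 1 → d ≠ u → d' ≠ 0 → d' ≠ 1 → d' ≠ u →
      ∃ φ : ZMod p → ZMod p, φ 0 = 0 ∧ φ 1 = 1 ∧ φ d = d' ∧
        ∀ {x y}, x ≠ y → third u (φ x) (φ y) = φ (third u x y) := by
    intro d d' d0 d1 du d0' d1' du'
    obtain ⟨g, hg, hg0, hg1⟩ := hC.tri (e.injective.ne zero_ne_one) (e.injective.ne d0)
      (e.injective.ne d1) (e.injective.ne d0') (e.injective.ne d1')
      (fun h => du (c01 ▸ (hcol _ _ _ zero_ne_one).mp h))
      (fun h => du' (c01 ▸ (hcol _ _ _ zero_ne_one).mp h))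
    exact ⟨fun x => e.symm (g • e x), by simp [hg0], by simp [hg1], by simp [hg],
      fun {x y} h => key g h⟩
  by_cases h2 : IsSquare (2 : ZMod p)
  · -- Pasch
    obtain ⟨φ, f0, f1, fd, hφ⟩ := hmove (d := -1) (d' := -u) (fun h => n1 (by linear_combination -h))
      (fun h => n2 (by linear_combination -h)) (fun h => um1 (by linear_combination -h))
      (neg_ne_zero.mpr u0) (fun h => um1 (by linear_combination -h))
      (fun h => mul_ne_zero n2 u0 (by linear_combination -h))
    have a2 : third u 0 (-1) = u - 1 := by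
      rw [third_not_sq (by rwa [sub_zero])]; ring
    have a3 : third u 1 (-1) = 2 * u - 1 := by
      rw [third_not_sq (by rw [show (-1 : ZMod p) - 1 = -2 by ring, hneg n2]; exact not_not.mpr h2)]
      ring
    have aE : third u u (u - 1) = 2 * u - 1 := by
      rw [third_not_sq (by rw [show u - 1 - u = -1 by ring]; exact m1)]; ring
    have b2 : third u 0 (-u) = 1 - u := by
      rw [third_sq (by rw [sub_zero, hneg u0]; exact huns)]; linear_combination -hu
    have b3 : third u 1 (-u) = 2 - 2 * u := by
      rw [third_sq (by rw [show -u - 1 = -(u + 1) by ring, hneg um1]; exact sp1)]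
      linear_combination -hu
    have hn21 : 2 * u - 1 ≠ 0 := fun h => n3 (by linear_combination 4 * hu - (2 * u - 1) * h)
    have bE : third u u (1 - u) = -1 := by
      rw [third_not_sq (by
        rw [show 1 - u - u = -(2 * u - 1) by ring, hneg hn21]; exact not_not.mpr s21)]
      linear_combination 2 * hu
    have fu : φ u = u := by rw [← c01, ← hφ zero_ne_one, f0, f1]
    have fw : φ (u - 1) = 1 - u := by
      rw [← a2, ← hφ (fun h => n1 (by linear_combination h)), f0, fd, b2]
    have e1 : φ (2 * u - 1) = 2 - 2 * u := by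
      rw [← a3, ← hφ (fun h => n2 (by linear_combination h)), f1, fd, b3]
    have e2 : φ (2 * u - 1) = -1 := by
      rw [← aE, ← hφ (fun h => n1 (by linear_combination h)), fu, fw, bE]
    rw [e1] at e2
    exact n7 (by linear_combination 4 * hu + (2 * u + 1) * e2)
  · obtain ⟨φ, f0, f1, fd, hφ⟩ := hmove (d := u - 1) (d' := 1 - u)
      (fun h => u1 (by linear_combination -h)) (fun h => u2 (by linear_combination -h))
      (fun h => n1 (by linear_combination -h)) u1 (fun h => u0 (by linear_combination -h))
      (fun h => n3 (by linear_combination 4 * hu + (2 * u - 1) * h))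
    have a2 : third u 0 (u - 1) = -1 := by
      rw [third_sq (by rw [sub_zero, ← neg_sub 1 u, hneg u1]; exact s1u)]; linear_combination hu
    have a3 : third u 1 (u - 1) = 2 * u := by
      rw [third_not_sq (by rw [show u - 1 - 1 = -(2 - u) by ring, hneg u2]; exact not_not.mpr h2u)]
      linear_combination -hu
    have a13 : third u u (2 * u) = u + 1 := by
      rw [third_not_sq (by rwa [show 2 * u - u = u by ring])]; linear_combination -hu
    have a12 : third u u (-1) = 1 - u := by
      rw [third_sq (by rw [show -1 - u = -(u + 1) by ring, hneg um1]; exact sp1)]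
      linear_combination -hu
    have s2u : IsSquare (2 * u) := (sq_mul n2 u0).mpr (iff_of_false h2 huns)
    have hn2u : 2 * u ≠ 0 := mul_ne_zero n2 u0
    have aE : third u (u + 1) (1 - u) = u - 1 := by
      rw [third_not_sq (by
        rw [show 1 - u - (u + 1) = -(2 * u) by ring, hneg hn2u]; exact not_not.mpr s2u)]
      linear_combination 2 * hu
    have b2 : third u 0 (1 - u) = -u := by
      rw [third_not_sq (by rwa [sub_zero])]; linear_combination hu
    have b3 : third u 1 (1 - u) = 2 - u := by
      rw [third_sq (by rw [show 1 - u - 1 = -u by ring, hneg u0]; exact huns)]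
      linear_combination -hu
    have b13 : third u u (2 - u) = u + 2 := by
      rw [third_sq (by
        rw [show 2 - u - u = 2 * (1 - u) by ring]; exact (sq_mul n2 u1).mpr (iff_of_false h2 s1u))]
      linear_combination -2 * hu
    have b12 : third u u (-u) = u - 2 := by
      rw [third_not_sq (by
        rw [show -u - u = -(2 * u) by ring, hneg hn2u]; exact not_not.mpr s2u)]
      linear_combination 2 * hu
    have bE : third u (u + 2) (u - 2) = 5 * u - 2 := by
      rw [third_not_sq (by
        rw [show u - 2 - (u + 2) = -(2 * 2) by ring, hneg (mul_ne_zero n2 n2)]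
        exact not_not.mpr ⟨2, rfl⟩)]
      ring
    have fu : φ u = u := by rw [← c01, ← hφ zero_ne_one, f0, f1]
    have g2 : φ (-1) = -u := by
      rw [← a2, ← hφ (fun h => u1 (by linear_combination h)), f0, fd, b2]
    have g3 : φ (2 * u) = 2 - u := by
      rw [← a3, ← hφ (fun h => u2 (by linear_combination h)), f1, fd, b3]
    have g13 : φ (u + 1) = u + 2 := by
      rw [← a13, ← hφ (fun h => u0 (by linear_combination -h)), fu, g3, b13]
    have g12 : φ (1 - u) = u - 2 := by
      rw [← a12, ← hφ (fun h => um1 (by linear_combination h)), fu, g2, b12]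
    have gE : φ (u - 1) = 5 * u - 2 := by
      rw [← aE, ← hφ (fun h => hn2u (by linear_combination h)), g13, g12, bE]
    rw [fd] at gE
    have hl : 3 * (1 - 2 * u) = 0 := by linear_combination gE
    have hu' : 1 - 2 * u = 0 := (mul_eq_zero.mp hl).resolve_left n3
    exact n3 (by linear_combination 4 * hu + (2 * u - 1) * hu')

end Triangles

/-- There is no such system for `p > 7`. -/
theorem no_lineSys [Fintype Ω] {e : ZMod p ≃ Ω} (he : Coord G e) {Col : Ω → Ω → Ω → Prop}
    (hC : LineSys G Col) (h2 : IsMultiplyPretransitive G Ω 2) (hp3 : p % 4 = 3) (hp7 : 7 < p) :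
    False := by
  obtain ⟨u, hu, huns, hcol⟩ := exists_param he hC h2 hp3 hp7
  by_cases h2u : IsSquare (2 - u)
  · exact false_of_param hC hp3 hp7 hu huns h2u hcol
  set e' := (Equiv.neg (ZMod p)).trans e with he'
  obtain ⟨u', hu', huns', hcol'⟩ := exists_param he.neg hC h2 hp3 hp7
  have huu : u' = 1 - u := by
    have h := (hcol' u' 0 1 zero_ne_one).mpr (by
      rw [third_sq (by rw [sub_zero]; exact ⟨1, (mul_one _).symm⟩)]; ring)
    simp only [Equiv.trans_apply, Equiv.neg_apply, neg_zero] at h
    have h' := (hcol (-u') 0 (-1) (fun h => one_ne_zero (α := ZMod p) (by linear_combination h))).mp h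
    rw [third_not_sq (by rw [sub_zero]; exact not_isSquare_neg_one hp3)] at h'
    linear_combination -h'
  refine false_of_param hC hp3 hp7 hu' huns' ?_ hcol'
  rw [huu]
  have n3 : (3 : ZMod p) ≠ 0 := by simpa using natCast_ne_zero (p := p) (n := 3) (by omega) (by omega)
  have hne1 : 2 - u ≠ 0 := fun h => n3 (by linear_combination hu + (u + 1) * h)
  have hne2 : 2 - (1 - u) ≠ 0 := fun h => n3 (by linear_combination hu - (u - 2) * h)
  by_contra hns
  have h := (sq_mul hne1 hne2).mpr (iff_of_false h2u hns)
  rw [show (2 - u) * (2 - (1 - u)) = 3 by linear_combination -hu] at h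
  have h' : IsSquare (-3 : ZMod p) := ⟨2 * u - 1, by linear_combination -4 * hu⟩
  exact (isSquare_neg_iff hp3 n3).mp h' h

end Cfsg.Agent.Lib.PrimeHalf
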