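import Cfsg.Agent.Lib.PrimeHalf.Main
import Cfsg.Agent.Lib.PrimeHalf.Netto
import Mathlib.GroupTheory.GroupAction.SubMulAction.OfStabilizer
import Mathlib.GroupTheory.GroupAction.Primitive

/-!
# The point stabiliser is primitive
-/

set_option autoImplicit false

open scoped Pointwise

namespace Cfsg.Agent.Lib.PrimeHalf

open MulAction Finset

variable {G Ω : Type*} [Group G] [MulAction G Ω] {p : ℕ} [hp : Fact p.Prime] [Fintype Ω]

/-- For `p > 7` the point stabiliser is primitive on the other points. -/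
theorem stabilizer_primitive (h2 : IsMultiplyPretransitive G Ω 2) {e : ZMod p ≃ Ω} (he : Coord G e)
    (hp3 : p % 4 = 3) (hp7 : 7 < p) (α : Ω) :
    IsPreprimitive ↥(stabilizer G α) ↥(SubMulAction.ofStabilizer G α) := by
  classical
  have htr : IsPretransitive ↥(stabilizer G α) ↥(SubMulAction.ofStabilizer G α) := by
    refine ⟨fun x y => ?_⟩
    obtain ⟨g, hg, hg'⟩ := is_two_pretransitive_iff.mp h2 (Ne.symm x.2) (Ne.symm y.2)
    exact ⟨⟨g, hg⟩, Subtype.ext hg'⟩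
  by_contra hnp
  obtain ⟨B, hB, hBs, hBu⟩ : ∃ B : Set ↥(SubMulAction.ofStabilizer G α),
      IsBlock ↥(stabilizer G α) B ∧ ¬ B.Subsingleton ∧ B ≠ Set.univ := by
    by_contra! hall
    refine hnp { isTrivialBlock_of_isBlock := fun {B} hB => ?_ }
    exact or_iff_not_imp_left.mpr fun h => hall B hB (Set.not_subsingleton_iff.mp h)
  obtain ⟨⟨β, hβ⟩, hβB, ⟨γ, hγ⟩, hγB, hne⟩ := Set.not_subsingleton_iff.mp hBs
  obtain ⟨⟨δ, hδ⟩, hδB⟩ := (Set.ne_univ_iff_exists_notMem B).mp hBu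
  have hαβ : α ≠ β := Ne.symm hβ
  have hγβ : γ ≠ β := fun h => hne (Subtype.ext h.symm)
  have hδβ : δ ≠ β := fun h => hδB (by subst h; exact hβB)
  let B' : Set Ω := Subtype.val '' B
  have memB : ∀ {x : Ω} (hx : x ≠ α), (⟨x, hx⟩ : ↥(SubMulAction.ofStabilizer G α)) ∈ B ↔ x ∈ B' :=
    fun {x} hx => ⟨fun h => ⟨_, h, rfl⟩, fun ⟨y, hy, hyx⟩ => by
      subst hyx; exact hy⟩
  have hB'α : ∀ {x}, x ∈ B' → x ≠ α := by rintro _ ⟨y, -, rfl⟩; exact y.2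
  -- elements fixing α and moving a point of the block into the block preserve it
  have hblock : ∀ (g : G), g • α = α → ∀ {x y : Ω}, x ∈ B' → g • x ∈ B' → y ∈ B' → g • y ∈ B' := by
    intro g hg x y hx hgx hy
    obtain ⟨x', hx', rfl⟩ := hx
    obtain ⟨y', hy', rfl⟩ := hy
    have h := hB.smul_eq_of_mem (g := (⟨g, hg⟩ : stabilizer G α)) hx' ((memB (x := g • (x' : Ω))
      (hB'α hgx)).mpr hgx)
    exact ⟨(⟨g, hg⟩ : stabilizer G α) • y', by
      exact h.subset (Set.smul_mem_smul_set hy'), rfl⟩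
  have hp7' : 7 ≤ p := hp7.le
  let Col : Ω → Ω → Ω → Prop := fun a b c => Tri G γ α β a b c
  have hinv : ∀ (g : G) a b c, Col (g • a) (g • b) (g • c) ↔ Col a b c :=
    fun g a b c => Tri.smul_iff g
  have hγ' : γ ∈ B' := (memB hγ).mp hγB
  have hβ' : β ∈ B' := (memB hβ).mp hβB
  have hδ' : δ ∉ B' := fun h => hδB ((memB hδ).mpr h)
  have hfix : ∀ {x y : Ω}, Tri G x α β y α β → (x ∈ B' ↔ y ∈ B') := by
    rintro x _ ⟨g, rfl, hgα, hgβ⟩
    have hginv : g⁻¹ • α = α := by rw [inv_smul_eq_iff, hgα]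
    have hgβ' : g⁻¹ • β = β := by rw [inv_smul_eq_iff, hgβ]
    refine ⟨fun hx => hblock g hgα hβ' (hgβ.symm ▸ hβ') hx, fun hx => ?_⟩
    have := hblock g⁻¹ hginv hβ' (hgβ'.symm ▸ hβ') hx
    rwa [inv_smul_smul] at this
  have hchar : ∀ {x : Ω}, x ≠ α → x ≠ β → (Col x α β ↔ x ∈ B') := by
    intro x hxα hxβ
    refine ⟨fun h => (hfix h).mp hγ', fun hx => ?_⟩
    rcases tri_two h2 he hp3 hp7' hαβ hγ hγβ hδ hδβ hxα hxβ with h | h | h
    · exact absurd ((hfix h).mp hγ') hδ'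
    · exact h
    · exact absurd ((hfix h).mpr hx) hδ'
  have hCne : ∀ {a b c}, Col a b c → a ≠ b ∧ a ≠ c ∧ b ≠ c := fun h =>
    ⟨(Tri.ne h).1 hγ, (Tri.ne h).2.1 hγβ, (Tri.ne h).2.2 hαβ⟩
  have hnorm : ∀ {b c : Ω}, b ≠ c → ∃ g : G, g • α = b ∧ g • β = c := fun h =>
    is_two_pretransitive_iff.mp h2 hαβ h
  have hswap : ∀ {a b c}, Col a b c → Col a c b := fun h =>
    (tri_swap h2 he hp3 hp7' hγ hγβ hαβ).trans h.swap
  have hrot : ∀ {a b c}, Col a b c → Col b c a := by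
    intro a b c h
    obtain ⟨hab, hac, hbc⟩ := hCne h
    have h1 : Tri G a b c b a c := (tri_swap h2 he hp3 hp7' hac.symm hbc.symm hab).rotate
    exact h.trans (h1.trans (tri_swap h2 he hp3 hp7' hab.symm hbc hac))
  refine no_lineSys he (Col := Col) ⟨hinv, hCne, hswap, hrot, ?_, ?_, ?_, ?_⟩ h2 hp3 hp7
  · -- lines
    intro a a' b c ha ha' hne'
    obtain ⟨g, rfl, rfl⟩ := hnorm (hCne ha).2.2
    obtain ⟨x, rfl⟩ : ∃ x, g • x = a := ⟨g⁻¹ • a, smul_inv_smul _ _⟩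
    obtain ⟨y, rfl⟩ : ∃ y, g • y = a' := ⟨g⁻¹ • a', smul_inv_smul _ _⟩
    rw [hinv] at ha ha' ⊢
    have hxy : x ≠ y := fun h => hne' (congrArg (g • ·) h)
    obtain ⟨hxα, hxβ, -⟩ := hCne ha
    obtain ⟨hyα, hyβ, -⟩ := hCne ha'
    have hxB := (hchar hxα hxβ).mp ha
    have hyB := (hchar hyα hyβ).mp ha'
    obtain ⟨k, hkα, hkβ⟩ := hnorm hxα.symm
    have hkinv : k⁻¹ • α = α := by rw [inv_smul_eq_iff, hkα]
    have hkx : k⁻¹ • x = β := by rw [inv_smul_eq_iff, hkβ]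
    have hky : k⁻¹ • y ∈ B' := hblock k⁻¹ hkinv hxB (hkx.symm ▸ hβ') hyB
    have hky1 : k⁻¹ • y ≠ α := hB'α hky
    have hky2 : k⁻¹ • y ≠ β := fun h => hxy (smul_left_cancel k⁻¹ (hkx.trans h.symm))
    have := (hinv k _ _ _).mpr ((hchar hky1 hky2).mpr hky)
    rwa [smul_inv_smul, hkα, hkβ] at this
  · intro b c hbc
    obtain ⟨g, rfl, rfl⟩ := hnorm hbc
    exact ⟨g • γ, (hinv g _ _ _).mpr (Tri.refl _ _ _)⟩
  · intro b c hbc
    obtain ⟨g, rfl, rfl⟩ := hnorm hbc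
    refine ⟨g • δ, fun h => hδ (smul_left_cancel g h), fun h => hδβ (smul_left_cancel g h), ?_⟩
    rw [hinv, hchar hδ hδβ]
    exact hδ'
  · intro a a' b c hbc hab hac hab' hac' ha ha'
    obtain ⟨g, rfl, rfl⟩ := hnorm hbc
    obtain ⟨x, rfl⟩ : ∃ x, g • x = a := ⟨g⁻¹ • a, smul_inv_smul _ _⟩
    obtain ⟨y, rfl⟩ : ∃ y, g • y = a' := ⟨g⁻¹ • a', smul_inv_smul _ _⟩
    rw [hinv] at ha ha'
    have hxα : x ≠ α := fun h => hab (congrArg (g • ·) h)
    have hxβ : x ≠ β := fun h => hac (congrArg (g • ·) h)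
    have hyα : y ≠ α := fun h => hab' (congrArg (g • ·) h)
    have hyβ : y ≠ β := fun h => hac' (congrArg (g • ·) h)
    have hgtri : Tri G (g • x) (g • α) (g • β) x α β :=
      ⟨g⁻¹, inv_smul_smul _ _, inv_smul_smul _ _, inv_smul_smul _ _⟩
    refine hgtri.trans (Tri.trans ?_ ⟨g, rfl, rfl, rfl⟩)
    rcases tri_two h2 he hp3 hp7' hαβ hγ hγβ hxα hxβ hyα hyβ with h | h | h
    · exact absurd h ha
    · exact absurd h ha'
    · exact h

end Cfsg.Agent.Lib.PrimeHalf
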