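import Cfsg.Agent.Lib.Perm.PrimeDegree
import Cfsg.Agent.Lib.Perm.PrimeDegreeSylow
import Cfsg.Agent.S0671
import Cfsg.Agent.S0674
import Cfsg.Agent.S0676
import Mathlib.Tactic.LinearCombination
import Mathlib.GroupTheory.Index

/-!
# Transitive groups of prime degree: coordinates

For a faithful transitive action of degree `p` of a group with Sylow normaliser of order at least
`p (p - 1) / 2`: a labelling with all translations and all square multipliers, and the constancy
criterion for invariant families of functions with zero sum and zero first moment.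
-/

set_option autoImplicit false

namespace Cfsg.Agent.Lib.PrimeHalf

open MulAction Finset Cfsg Cfsg.Agent.Lib.Perm Cfsg.Agent.Lib.Perm.Modules Cfsg.Agent.Lib.Perm.PrimeDegree

variable {G Ω : Type*} [Group G] [MulAction G Ω] {p : ℕ} [hp : Fact p.Prime]

/-- `e` is a labelling in which `G` contains the translations and the square multipliers, and in which
an invariant family of functions with zero sum and zero moment consists of constants. -/
structure Coord (G : Type*) {Ω : Type*} [Group G] [MulAction G Ω] {p : ℕ} [Fact p.Prime]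
    (e : ZMod p ≃ Ω) : Prop where
  shift : ∀ w : ZMod p, ∃ g : G, ∀ j, g • e j = e (j + w)
  scale : ∀ u : ZMod p, u ≠ 0 → IsSquare u → ∃ g : G, ∀ j, g • e j = e (u * j)
  const : ∀ (𝓕 : Set (Ω → ZMod p)),
    (∀ (g : G), ∀ f ∈ 𝓕, (fun a => f (g • a)) ∈ 𝓕) →
    (∀ f ∈ 𝓕, ∑ j, f (e j) = 0) → (∀ f ∈ 𝓕, ∑ j, j * f (e j) = 0) → ∀ f ∈ 𝓕, ∀ a b, f a = f b

theorem sum_id_eq_zero (hp2 : p ≠ 2) : ∑ j : ZMod p, j = 0 := by
  have h3 : (2 : ZMod p) * ∑ j : ZMod p, j = 0 := by
    have hneg : ∑ j : ZMod p, j = ∑ j : ZMod p, -j :=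
      (Equiv.sum_comp (Equiv.neg (ZMod p)) (fun j => j)).symm
    rw [two_mul]
    nth_rw 2 [hneg]
    rw [← Finset.sum_add_distrib]
    simp
  refine (mul_eq_zero.mp h3).resolve_left fun h => hp2 ?_
  have h' : ((2 : ℕ) : ZMod p) = 0 := by exact_mod_cast h
  exact (Nat.prime_dvd_prime_iff_eq hp.out Nat.prime_two).mp ((ZMod.natCast_eq_zero_iff 2 p).mp h')

/-- Composing the labelling with negation. -/
theorem Coord.neg {e : ZMod p ≃ Ω} (h : Coord G e) : Coord G ((Equiv.neg (ZMod p)).trans e) where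
  shift w := by
    obtain ⟨g, hg⟩ := h.shift (-w)
    exact ⟨g, fun j => by simp only [Equiv.trans_apply, Equiv.neg_apply, hg]; congr 1; ring⟩
  scale u hu hs := by
    obtain ⟨g, hg⟩ := h.scale u hu hs
    exact ⟨g, fun j => by simp only [Equiv.trans_apply, Equiv.neg_apply, hg]; congr 1; ring⟩
  const 𝓕 hF hsum hmom := by
    refine h.const 𝓕 hF (fun f hf => ?_) (fun f hf => ?_)
    · rw [← hsum f hf]
      exact (Equiv.sum_comp (Equiv.neg (ZMod p)) (fun j => f (e j))).symm
    · have := hmom f hf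
      rw [← Equiv.sum_comp (Equiv.neg (ZMod p))] at this
      simpa [Finset.sum_neg_distrib] using this

section Exists

variable [FaithfulSMul G Ω] [Fintype Ω]

theorem injective_toPermHom : Function.Injective (MulAction.toPermHom G Ω) :=
  MulAction.toPerm_injective

theorem isPretransitive_range (htrans : IsPretransitive G Ω) :
    IsPretransitive (MulAction.toPermHom G Ω).range Ω :=
  ⟨fun x y => let ⟨g, hg⟩ := exists_smul_eq G x y; ⟨⟨_, ⟨g, rfl⟩⟩, hg⟩⟩

theorem not_isSolvable_range (hins : ¬ Group.IsSolvable G) :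
    ¬ Group.IsSolvable (MulAction.toPermHom G Ω).range := fun h =>
  hins (Group.isSolvable_of_isSolvable_injective
    (f := (MulAction.toPermHom G Ω).rangeRestrict) (fun a b hab =>
      injective_toPermHom (congrArg Subtype.val hab)))

theorem card_sylow (hΩ : Fintype.card Ω = p) (htrans : IsPretransitive G Ω) [Finite G]
    (P : Sylow p G) : Nat.card (P : Subgroup G) = p := by
  have := sylow_isPretransitive (Ω := Ω) (f := 1) (by rw [Nat.card_eq_fintype_card, hΩ, pow_one]) P
  obtain ⟨k, hk⟩ := P.isPGroup'.exists_card_eq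
  have hne : Nonempty Ω := Fintype.card_pos_iff.mp (hΩ ▸ hp.out.pos)
  obtain ⟨a⟩ := hne
  have hd : p ∣ Nat.card (P : Subgroup G) := by
    rw [Basic.card_eq_card_mul_card_stabilizer (α := Ω) a, Nat.card_eq_fintype_card (α := Ω), hΩ]
    exact dvd_mul_right p _
  have hk2 : ¬ 2 ≤ k := fun h => by
    refine PrimeDegreeSylow.not_sq_dvd_card hΩ (MulAction.toPermHom G Ω).range ?_
    refine (pow_dvd_pow p h).trans ?_
    rw [← hk, ← Nat.card_congr (MonoidHom.ofInjective injective_toPermHom).toEquiv]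
    exact (P : Subgroup G).card_subgroup_dvd_card
  interval_cases k
  · rw [hk, pow_zero] at hd
    exact absurd (Nat.le_of_dvd one_pos hd) (not_le.mpr hp.out.one_lt)
  · rw [hk, pow_one]

/-- Labelling attached to a Sylow normaliser of order at least `p (p - 1) / 2`. -/
theorem exists_coord [Finite G] (hΩ : Fintype.card Ω = p) (htrans : IsPretransitive G Ω)
    (hins : ¬ Group.IsSolvable G) (P : Sylow p G)
    (hN : p * (p - 1) ≤ 2 * Nat.card ↥(Subgroup.normalizer ((P : Subgroup G) : Set G))) :
    ∃ e : ZMod p ≃ Ω, Coord G e := by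
  classical
  set ρ := MulAction.toPermHom G Ω with hρ
  have hρinj : Function.Injective ρ := injective_toPermHom
  have hρa : ∀ (g : G) (x : Ω), ρ g x = g • x := fun g x => rfl
  have htr' := isPretransitive_range (G := G) (Ω := Ω) htrans
  have h5 := five_le_of_not_solvable hΩ ρ.range (not_isSolvable_range hins)
  have hp2 : p ≠ 2 := by omega
  have hPtr := sylow_isPretransitive (Ω := Ω) (f := 1)
    (by rw [Nat.card_eq_fintype_card, hΩ, pow_one]) P
  have : IsPretransitive ((P : Subgroup G).map ρ) Ω :=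
    ⟨fun x y => let ⟨k, hk⟩ := exists_smul_eq (P : Subgroup G) x y
      ⟨⟨_, Subgroup.mem_map_of_mem _ k.2⟩, hk⟩⟩
  have hne : Nonempty Ω := Fintype.card_pos_iff.mp (hΩ ▸ hp.out.pos)
  obtain ⟨a⟩ := hne
  obtain ⟨e, c0, hcP, -, hcp, hce⟩ := exists_cycle_equiv hΩ ((P : Subgroup G).map ρ) a
  obtain ⟨c, hcP, rfl⟩ := hcP
  have hzp : Subgroup.zpowers (⟨c, hcP⟩ : (P : Subgroup G)) = ⊤ := by
    refine zpowers_eq_top_of_prime_card (card_sylow hΩ htrans P) fun h => ?_
    have h1 := hce 0
    rw [show c = 1 from congrArg Subtype.val h, map_one] at h1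
    exact zero_ne_one ((e.injective h1).trans (zero_add 1))
  have hpow : ∀ (n : ℕ) j, (c ^ n) • e j = e (j + n) := fun n j => by
    rw [← hρa, map_pow]; exact cycle_pow_apply hce n j
  have hshift : ∀ w : ZMod p, ∃ g : G, ∀ j, g • e j = e (j + w) := fun w => by
    obtain ⟨n, rfl⟩ := ZMod.natCast_zmod_surjective w
    exact ⟨c ^ n, hpow n⟩
  set N := Subgroup.normalizer ((P : Subgroup G) : Set G) with hNdef
  have haff : ∀ g ∈ N, ∃ k b : ZMod p, ∀ j, g • e j = e (k * j + b) := by
    intro g hg
    have hconj : g * c * g⁻¹ ∈ (P : Subgroup G) := (Subgroup.mem_normalizer_iff.mp hg c).mp hcP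
    obtain ⟨k, hk⟩ : ∃ k : ℕ, c ^ k = g * c * g⁻¹ := by
      have h1 : (⟨_, hconj⟩ : (P : Subgroup G)) ∈ Subgroup.zpowers ⟨c, hcP⟩ :=
        hzp ▸ Subgroup.mem_top _
      obtain ⟨k, hk⟩ := mem_powers_iff_mem_zpowers.mpr h1
      exact ⟨k, congrArg Subtype.val hk⟩
    refine ⟨k, e.symm (g • e 0), fun j => ?_⟩
    obtain ⟨n, rfl⟩ := ZMod.natCast_zmod_surjective j
    induction n with
    | zero => simp
    | succ n ih =>
      have h1 : g • e (((n : ℕ) : ZMod p) + 1) = (c ^ k) • g • e n := by
        rw [← hce, hρa, ← mul_smul, ← mul_smul, hk, inv_mul_cancel_right]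
      rw [Nat.cast_succ, h1, ih, hpow]
      congr 1
      ring
  choose k b hkb using haff
  have hu : ∀ g (hg : g ∈ N) (k' b' : ZMod p), (∀ j, g • e j = e (k' * j + b')) →
      k g hg = k' ∧ b g hg = b' := by
    intro g hg k' b' h
    have h0 := e.injective ((hkb g hg 0).symm.trans (h 0))
    simp only [mul_zero, zero_add] at h0
    have h1 := e.injective ((hkb g hg 1).symm.trans (h 1))
    rw [h0, mul_one, mul_one, add_left_inj] at h1
    exact ⟨h1, h0⟩
  let φ : N →* ZMod p :=
    { toFun := fun g => k g.1 g.2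
      map_one' := (hu _ _ 1 0 fun j => by simp).1
      map_mul' := fun g h => (hu _ _ (k g.1 g.2 * k h.1 h.2) (k g.1 g.2 * b h.1 h.2 + b g.1 g.2)
        fun j => by
          rw [Subgroup.coe_mul, mul_smul, hkb h.1 h.2, hkb g.1 g.2]
          congr 1
          ring).1 }
  have hker : Nat.card φ.toHomUnits.ker ≤ p := by
    refine (Nat.card_le_card_of_injective
      (fun g : φ.toHomUnits.ker => b g.1.1 g.1.2) fun g h hgh => ?_).trans (Nat.card_zmod p).le
    have hg : k g.1.1 g.1.2 = 1 := congrArg Units.val (MonoidHom.mem_ker.mp g.2)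
    have hh : k h.1.1 h.1.2 = 1 := congrArg Units.val (MonoidHom.mem_ker.mp h.2)
    refine Subtype.ext (Subtype.ext (eq_of_smul_eq_smul fun x : Ω => ?_))
    obtain ⟨j, rfl⟩ := e.surjective x
    rw [hkb g.1.1 g.1.2, hkb h.1.1 h.1.2, hg, hh]
    simp only at hgh
    rw [hgh]
  have hscale : ∀ u : ZMod p, u ≠ 0 → IsSquare u → ∃ g : G, ∀ j, g • e j = e (u * j) := by
    rintro u hu0 ⟨v, rfl⟩
    have hv : v ≠ 0 := fun h => hu0 (by simp [h])
    have hidx : φ.toHomUnits.range.index ≤ 2 := by
      have h1 := φ.toHomUnits.ker.card_mul_index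
      rw [Subgroup.index_ker] at h1
      have h2 := φ.toHomUnits.range.card_mul_index
      rw [Nat.card_eq_fintype_card (α := (ZMod p)ˣ), ZMod.card_units_eq_totient, Nat.totient_prime hp.out] at h2
      set A := Nat.card φ.toHomUnits.ker
      set B := Nat.card φ.toHomUnits.range with hB
      set I := φ.toHomUnits.range.index
      have hB0 : 0 < B := Nat.card_pos
      by_contra hI
      have h3 : 3 * B ≤ p - 1 := by rw [← h2, mul_comm B]; exact Nat.mul_le_mul_right B (by omega)
      have h4 : Nat.card N ≤ p * B := by rw [← h1]; exact Nat.mul_le_mul_right B hker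
      have h5' : p * (3 * B) ≤ p * (p - 1) := Nat.mul_le_mul_left p h3
      have h6 : 0 < p * B := Nat.mul_pos hp.out.pos hB0
      nlinarith
    have hmem : Units.mk0 v hv * Units.mk0 v hv ∈ φ.toHomUnits.range := by
      have h0 : φ.toHomUnits.range.index ≠ 0 := Subgroup.index_ne_zero_of_finite
      rcases (show φ.toHomUnits.range.index = 1 ∨ φ.toHomUnits.range.index = 2 by omega) with h | h
      · rw [Subgroup.index_eq_one.mp h]; exact Subgroup.mem_top _
      · exact Subgroup.mul_self_mem_of_index_two h _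
    obtain ⟨g, hg⟩ := hmem
    have hg' : k g.1 g.2 = v * v := congrArg Units.val hg
    obtain ⟨t, ht⟩ := hshift (- b g.1 g.2)
    exact ⟨t * g.1, fun j => by rw [mul_smul, hkb g.1 g.2, ht, hg', add_neg_cancel_right]⟩
  refine ⟨e, hshift, hscale, fun 𝓕 hF hsum hmom f₀ hf₀ => ?_⟩
  let ℓ : (Ω → ZMod p) →ₗ[ZMod p] ZMod p :=
    { toFun := fun f => ∑ j, j * f (e j)
      map_add' := fun f f' => by simp [mul_add, Finset.sum_add_distrib]
      map_smul' := fun r f => by simp [Finset.mul_sum, mul_left_comm] }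
  let C := (permConstants (ZMod p) ρ.range Ω).toSubmodule
  let W : Submodule (ZMod p) (Ω → ZMod p) := Submodule.span (ZMod p) 𝓕 ⊔ C
  have hWinv : ∀ (σ : ρ.range), ∀ f ∈ W, permRep (ZMod p) ρ.range Ω σ f ∈ W := by
    rintro ⟨σ, g, rfl⟩ f hf
    have hle : W ≤ W.comap (permRep (ZMod p) ρ.range Ω ⟨ρ g, g, rfl⟩) := by
      refine sup_le (Submodule.span_le.mpr ?_) ?_
      · intro u hu
        exact Submodule.mem_sup_left (Submodule.subset_span (hF g⁻¹ u hu))
      · intro u hu
        obtain ⟨r, rfl⟩ := mem_permConstants.mp hu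
        exact Submodule.mem_sup_right (mem_permConstants.mpr ⟨r, rfl⟩)
    exact hle hf
  let W' : Subrepresentation (permRep (ZMod p) ρ.range Ω) := ⟨W, fun σ v hv => hWinv σ v hv⟩
  have hW0 : W ≤ (permSumZero (ZMod p) ρ.range Ω).toSubmodule := by
    refine sup_le (Submodule.span_le.mpr ?_) fun u hu => ?_
    · intro u hu
      refine mem_permSumZero.mpr ?_
      rw [← hsum u hu]
      exact (Equiv.sum_comp e u).symm
    · obtain ⟨r, rfl⟩ := mem_permConstants.mp hu
      exact mem_permSumZero.mpr (by simp [hΩ])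
  have hWℓ : ∀ f ∈ W, ℓ f = 0 := by
    have hle : W ≤ LinearMap.ker ℓ := by
      refine sup_le (Submodule.span_le.mpr ?_) fun u hu => ?_
      · exact fun u hu => LinearMap.mem_ker.mpr (hmom u hu)
      · obtain ⟨r, rfl⟩ := mem_permConstants.mp hu
        refine LinearMap.mem_ker.mpr ?_
        simp [ℓ, ← Finset.sum_mul, sum_id_eq_zero hp2]
    exact fun f hf => hle hf
  rcases S0674.result hΩ ρ.range (not_isSolvable_range hins) W' le_sup_right hW0 with h | h
  · have hi : f₀ ∈ W'.toSubmodule :=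
      Submodule.mem_sup_left (Submodule.subset_span hf₀)
    rw [h] at hi
    obtain ⟨r, hr⟩ := mem_permConstants.mp hi
    exact fun x y => by rw [hr]
  · exfalso
    have hd : (Pi.single (e 1) 1 - Pi.single (e 0) 1 : Ω → ZMod p) ∈ W'.toSubmodule := by
      rw [h]
      exact mem_permSumZero.mpr (by simp)
    have hd0 : ∑ j : ZMod p, j * ((Pi.single (e 1) 1 - Pi.single (e 0) 1 : Ω → ZMod p) (e j)) = 0 :=
      hWℓ _ hd
    simp [Pi.single_apply, mul_sub, Finset.sum_sub_distrib] at hd0

/-- Burnside: the action is doubly transitive. -/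
theorem two_transitive (hΩ : Fintype.card Ω = p) (htrans : IsPretransitive G Ω)
    (hins : ¬ Group.IsSolvable G) : IsMultiplyPretransitive G Ω 2 := by
  classical
  set ρ := MulAction.toPermHom G Ω with hρ
  have htr' := isPretransitive_range (G := G) (Ω := Ω) htrans
  have : Finite G := Finite.of_injective ρ injective_toPermHom
  have hne : Nonempty Ω := Fintype.card_pos_iff.mp (hΩ ▸ hp.out.pos)
  obtain ⟨a⟩ := hne
  obtain ⟨e, c, hc, -, -, hce⟩ := exists_cycle_equiv hΩ ρ.range a
  have h2 : IsMultiplyPretransitive ρ.range Ω 2 :=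
    (affine_or_two_transitive hΩ ρ.range e c hc hce fun h =>
      S0671.result (p := p) (f := 1) le_rfl (by rw [pow_one, hΩ]) h).resolve_left
        fun h => not_isSolvable_range hins (isSolvable_of_affine e _ h)
  rw [is_two_pretransitive_iff] at h2 ⊢
  intro x y z w hxy hzw
  obtain ⟨⟨σ, g, rfl⟩, h1, h3⟩ := h2 hxy hzw
  exact ⟨g, h1, h3⟩

/-- An even Sylow normaliser makes the action triply transitive. -/
theorem three_transitive_of_even [Finite G] (hΩ : Fintype.card Ω = p)
    (htrans : IsPretransitive G Ω) (hins : ¬ Group.IsSolvable G) (P : Sylow p G)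
    (heven : Even (Nat.card ↥(Subgroup.normalizer ((P : Subgroup G) : Set G)))) :
    IsMultiplyPretransitive G Ω 3 := by
  classical
  set ρ := MulAction.toPermHom G Ω with hρ
  have htr' := isPretransitive_range (G := G) (Ω := Ω) htrans
  let ρ' : G →* ρ.range := ρ.rangeRestrict
  have hρ' : Function.Surjective ρ' := ρ.rangeRestrict_surjective
  let P' : Sylow p ρ.range := P.mapSurjective hρ'
  have heven' : Even (Nat.card ↥(Subgroup.normalizer ((P' : Subgroup ρ.range) : Set ρ.range))) := by
    have hinj : Function.Injective ρ' := fun x y h => injective_toPermHom (congrArg Subtype.val h)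
    have hmap : (Subgroup.normalizer ((P : Subgroup G) : Set G)).map ρ' =
        Subgroup.normalizer ((P' : Subgroup ρ.range) : Set ρ.range) := by
      rw [Sylow.coe_mapSurjective]
      exact Subgroup.map_normalizer_eq_of_bijective (P : Subgroup G) (f := ρ') ⟨hinj, hρ'⟩
    rw [← hmap, Subgroup.card_map_of_injective hinj]
    exact heven
  have h3 := S0676.result hΩ ρ.range (not_isSolvable_range hins) P' heven'
  refine ⟨fun x y => ?_⟩
  obtain ⟨⟨σ, g, rfl⟩, hg⟩ := exists_smul_eq ρ.range x y
  exact ⟨g, hg⟩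

end Exists

end Cfsg.Agent.Lib.PrimeHalf
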