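import Cfsg.Agent.Lib.PrimeHalf.Setup
import Mathlib.NumberTheory.LegendreSymbol.Basic

/-!
# Transitive groups of prime degree `p ≡ 3 (mod 4)` with square multipliers

The group induces the symmetric group on every triple, and the stabiliser of two points has at most
two orbits on the other points.
-/

set_option autoImplicit false

namespace Cfsg.Agent.Lib.PrimeHalf

open MulAction Finset

variable {G Ω : Type*} [Group G] [MulAction G Ω] {p : ℕ} [hp : Fact p.Prime]

/-- `z` or `-z`, according as `z` is a square or not. -/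
noncomputable def sabs (z : ZMod p) : ZMod p := by
  classical exact if IsSquare z then z else -z

theorem sabs_of_sq {z : ZMod p} (h : IsSquare z) : sabs z = z := by simp [sabs, h]

theorem sabs_of_not_sq {z : ZMod p} (h : ¬ IsSquare z) : sabs z = -z := by simp [sabs, h]

theorem not_isSquare_neg_one (hp3 : p % 4 = 3) : ¬ IsSquare (-1 : ZMod p) := fun h =>
  ZMod.exists_sq_eq_neg_one_iff.mp h hp3

theorem isSquare_neg_iff (hp3 : p % 4 = 3) {z : ZMod p} (hz : z ≠ 0) :
    IsSquare (-z) ↔ ¬ IsSquare z := by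
  constructor
  · rintro ⟨r, hr⟩ ⟨s, hs⟩
    have hs0 : s ≠ 0 := fun h => hz (by simp [hs, h])
    refine not_isSquare_neg_one hp3 ⟨r / s, ?_⟩
    field_simp
    linear_combination hr + hs
  · intro h
    have h1 : quadraticChar (ZMod p) z = -1 := quadraticChar_neg_one_iff_not_isSquare.mpr h
    have h2 : quadraticChar (ZMod p) (-1) = -1 :=
      quadraticChar_neg_one_iff_not_isSquare.mpr (not_isSquare_neg_one hp3)
    refine (quadraticChar_one_iff_isSquare (neg_ne_zero.mpr hz)).mp ?_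
    rw [neg_eq_neg_one_mul, map_mul, h1, h2]; norm_num

/-- The first moment. -/
def moment (e : ZMod p ≃ Ω) (S : Ω → Ω → Ω → ZMod p) (b c : ZMod p) : ZMod p :=
  ∑ j, j * S (e j) (e b) (e c)

section Moment

variable {e : ZMod p ≃ Ω} (he : Coord G e) (S : Ω → Ω → Ω → ZMod p)
  (hS : ∀ (g : G) a b c, S (g • a) (g • b) (g • c) = S a b c)

include he hS

theorem moment_shift (hrow : ∀ b c, b ≠ c → ∑ j, S (e j) (e b) (e c) = 0) {b c : ZMod p}
    (hbc : b ≠ c) (w : ZMod p) : moment e S (b + w) (c + w) = moment e S b c := by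
  obtain ⟨g, hg⟩ := he.shift w
  unfold moment
  rw [← Equiv.sum_comp (Equiv.addRight w)]
  simp only [Equiv.coe_addRight, ← hg, hS, add_mul, Finset.sum_add_distrib, ← Finset.mul_sum,
    hrow b c hbc, mul_zero, add_zero]

theorem moment_scale {u : ZMod p} (hu : u ≠ 0) (hs : IsSquare u) (b c : ZMod p) :
    moment e S (u * b) (u * c) = u * moment e S b c := by
  obtain ⟨g, hg⟩ := he.scale u hu hs
  unfold moment
  rw [← Equiv.sum_comp (Equiv.mulLeft₀ u hu), Finset.mul_sum]
  simp only [Equiv.mulLeft₀, Units.mulLeft_apply, Units.val_mk0, ← hg, hS, mul_assoc]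

theorem moment_symm (hp3 : p % 4 = 3) (hrow : ∀ b c, b ≠ c → ∑ j, S (e j) (e b) (e c) = 0)
    (hsym : ∀ a b c, S a b c = S a c b) {b c : ZMod p} (hbc : b ≠ c) :
    moment e S b c = sabs (c - b) * moment e S 0 1 := by
  have hz : c - b ≠ 0 := sub_ne_zero.mpr hbc.symm
  by_cases h : IsSquare (c - b)
  · rw [sabs_of_sq h, ← moment_scale he S hS hz h, mul_zero, mul_one,
      ← moment_shift he S hS hrow hz.symm b, zero_add, sub_add_cancel]
  · have h' := (isSquare_neg_iff hp3 hz).mpr h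
    rw [sabs_of_not_sq h, ← moment_scale he S hS (neg_ne_zero.mpr hz) h', mul_zero, mul_one,
      ← moment_shift he S hS hrow (neg_ne_zero.mpr hz).symm c, zero_add,
      show -(c - b) + c = b by ring]
    exact Finset.sum_congr rfl fun j _ => by rw [hsym]

theorem moment_anti (hp3 : p % 4 = 3) (hrow : ∀ b c, b ≠ c → ∑ j, S (e j) (e b) (e c) = 0)
    (hanti : ∀ a b c, S a c b = - S a b c) {b c : ZMod p} (hbc : b ≠ c) :
    moment e S b c = (c - b) * moment e S 0 1 := by
  have hz : c - b ≠ 0 := sub_ne_zero.mpr hbc.symm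
  by_cases h : IsSquare (c - b)
  · rw [← moment_scale he S hS hz h, mul_zero, mul_one,
      ← moment_shift he S hS hrow hz.symm b, zero_add, sub_add_cancel]
  · have h' := (isSquare_neg_iff hp3 hz).mpr h
    rw [← neg_neg (c - b), neg_mul, ← moment_scale he S hS (neg_ne_zero.mpr hz) h', mul_zero,
      mul_one, ← moment_shift he S hS hrow (neg_ne_zero.mpr hz).symm c, zero_add,
      show -(c - b) + c = b by ring]
    unfold moment
    rw [← Finset.sum_neg_distrib]
    exact Finset.sum_congr rfl fun j _ => by rw [hanti, mul_neg]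

theorem eq_zero_of_moment (hrow : ∀ b c, b ≠ c → ∑ j, S (e j) (e b) (e c) = 0)
    (hdiag : ∀ b c, S b b c = 0) (hmom : ∀ b c, b ≠ c → moment e S b c = 0)
    (a b c : Ω) (hbc : b ≠ c) : S a b c = 0 := by
  rw [he.const {f | ∃ b c : ZMod p, b ≠ c ∧ f = fun a => S a (e b) (e c)} ?_ ?_ ?_
    (fun a => S a b c) ⟨e.symm b, e.symm c, e.symm.injective.ne hbc, by simp⟩ a b]
  · exact hdiag b c
  · rintro g _ ⟨b, c, hbc, rfl⟩
    refine ⟨e.symm (g⁻¹ • e b), e.symm (g⁻¹ • e c),
      fun h => hbc (e.injective ((smul_left_cancel_iff g⁻¹).mp (e.symm.injective h))), funext fun a => ?_⟩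
    simpa using hS g a (g⁻¹ • e b) (g⁻¹ • e c)
  · rintro _ ⟨b, c, hbc, rfl⟩
    exact hrow b c hbc
  · rintro _ ⟨b, c, hbc, rfl⟩
    exact hmom b c hbc

end Moment

/-- The relation of lying in one orbit on triples. -/
def Tri (G : Type*) {Ω : Type*} [SMul G Ω] (a₀ b₀ c₀ a b c : Ω) : Prop :=
  ∃ g : G, g • a₀ = a ∧ g • b₀ = b ∧ g • c₀ = c

theorem Tri.refl (a b c : Ω) : Tri G a b c a b c := ⟨1, one_smul _ _, one_smul _ _, one_smul _ _⟩

theorem Tri.symm {a b c a' b' c' : Ω} (h : Tri G a b c a' b' c') : Tri G a' b' c' a b c := by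
  obtain ⟨g, rfl, rfl, rfl⟩ := h
  exact ⟨g⁻¹, inv_smul_smul _ _, inv_smul_smul _ _, inv_smul_smul _ _⟩

theorem Tri.trans {a b c a' b' c' a'' b'' c'' : Ω} (h : Tri G a b c a' b' c')
    (h' : Tri G a' b' c' a'' b'' c'') : Tri G a b c a'' b'' c'' := by
  obtain ⟨g, rfl, rfl, rfl⟩ := h
  obtain ⟨k, rfl, rfl, rfl⟩ := h'
  exact ⟨k * g, mul_smul _ _ _, mul_smul _ _ _, mul_smul _ _ _⟩

theorem Tri.smul_iff (g : G) {a₀ b₀ c₀ a b c : Ω} :
    Tri G a₀ b₀ c₀ (g • a) (g • b) (g • c) ↔ Tri G a₀ b₀ c₀ a b c :=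
  ⟨fun h => h.trans ⟨g⁻¹, inv_smul_smul _ _, inv_smul_smul _ _, inv_smul_smul _ _⟩,
    fun h => h.trans ⟨g, rfl, rfl, rfl⟩⟩

theorem Tri.swap {a b c a' b' c' : Ω} (h : Tri G a b c a' b' c') : Tri G a c b a' c' b' := by
  obtain ⟨g, h1, h2, h3⟩ := h; exact ⟨g, h1, h3, h2⟩

theorem Tri.rotate {a b c a' b' c' : Ω} (h : Tri G a b c a' b' c') : Tri G b c a b' c' a' := by
  obtain ⟨g, h1, h2, h3⟩ := h; exact ⟨g, h2, h3, h1⟩

theorem Tri.ne {a b c a' b' c' : Ω} (h : Tri G a b c a' b' c') :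
    (a ≠ b → a' ≠ b') ∧ (a ≠ c → a' ≠ c') ∧ (b ≠ c → b' ≠ c') := by
  obtain ⟨g, rfl, rfl, rfl⟩ := h
  exact ⟨fun h e => h (smul_left_cancel g e), fun h e => h (smul_left_cancel g e),
    fun h e => h (smul_left_cancel g e)⟩

section Orbits

variable [Fintype Ω] (h2 : IsMultiplyPretransitive G Ω 2)

include h2

theorem count_const (R : Ω → Ω → Ω → Prop) [∀ a b c, Decidable (R a b c)]
    (hR : ∀ (g : G) a b c, R (g • a) (g • b) (g • c) ↔ R a b c) {b c b' c' : Ω} (h : b ≠ c)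
    (h' : b' ≠ c') : (univ.filter fun a => R a b c).card = (univ.filter fun a => R a b' c').card := by
  obtain ⟨g, hb, hc⟩ := is_two_pretransitive_iff.mp h2 h h'
  refine Finset.card_equiv (MulAction.toPerm g) fun a => ?_
  simp [← hb, ← hc, hR]

variable {e : ZMod p ≃ Ω} (he : Coord G e) (hp3 : p % 4 = 3) (hp7 : 7 ≤ p)

include he hp3 hp7

/-- The group induces every transposition on every triple. -/
theorem tri_swap {a₀ b₀ c₀ : Ω} (hab : a₀ ≠ b₀) (hac : a₀ ≠ c₀) (hbc : b₀ ≠ c₀) :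
    Tri G a₀ b₀ c₀ a₀ c₀ b₀ := by
  classical
  by_contra hno
  let R := fun a b c => Tri G a₀ b₀ c₀ a b c
  have hR : ∀ (g : G) a b c, R (g • a) (g • b) (g • c) ↔ R a b c := fun g a b c => Tri.smul_iff g
  let T : Ω → Ω → Ω → ℤ := fun a b c => (if R a b c then 1 else 0) - (if R a c b then 1 else 0)
  have hRne : ∀ {a b c}, R a b c → a ≠ b ∧ a ≠ c ∧ b ≠ c := fun h =>
    ⟨(Tri.ne h).1 hab, (Tri.ne h).2.1 hac, (Tri.ne h).2.2 hbc⟩
  have hTanti : ∀ a b c, T a c b = - T a b c := fun a b c => by simp only [T]; ring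
  have hTinv : ∀ (g : G) a b c, T (g • a) (g • b) (g • c) = T a b c := fun g a b c => by
    simp only [T, hR]
  have hTsame : ∀ a b, T a b b = 0 := fun a b => by simp [T]
  have hTfst : ∀ b c, T b b c = 0 := fun b c => by
    have h1 : ¬ R b b c := fun h => (hRne h).1 rfl
    have h2' : ¬ R b c b := fun h => (hRne h).2.1 rfl
    simp [T, h1, h2']
  have hTsum : ∀ b c, ∑ j, T (e j) b c = 0 := by
    intro b c
    rw [Equiv.sum_comp e (fun a => T a b c)]
    rcases eq_or_ne b c with rfl | hne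
    · simp [hTsame]
    · simp only [T, Finset.sum_sub_distrib, Finset.sum_boole]
      rw [count_const h2 R hR hne hne.symm, sub_self]
  have hTle : ∀ a b c, -1 ≤ T a b c ∧ T a b c ≤ 1 := fun a b c => by
    simp only [T]; split_ifs <;> omega
  let S : Ω → Ω → Ω → ZMod p := fun a b c => T a b c
  have hSrow : ∀ b c, b ≠ c → ∑ j, S (e j) (e b) (e c) = 0 := fun b c _ => by
    simp only [S, ← Int.cast_sum, hTsum, Int.cast_zero]
  have hL := fun {b c : ZMod p} (h : b ≠ c) => moment_anti he S (fun g a b c => by simp [S, hTinv])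
    hp3 hSrow (fun a b c => by simp only [S]; rw [hTanti, Int.cast_neg]) h
  let F : Ω → Ω → Ω → Ω → ℤ := fun b c d a => T a b c + T a c d + T a d b
  have hFsum : ∀ b c d, ∑ j, F b c d (e j) = 0 := fun b c d => by
    simp only [F, Finset.sum_add_distrib, hTsum, add_zero]
  have hFconst : ∀ b c d a a', F b c d a = F b c d a' := by
    intro b c d a a'
    by_cases hdist : b = c ∨ b = d ∨ c = d
    · have : ∀ x, F b c d x = 0 := fun x => by
        rcases hdist with rfl | rfl | rfl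
        · simp only [F, hTsame, hTanti x d b]; ring
        · simp only [F, hTsame, hTanti x c b]; ring
        · simp only [F, hTsame, hTanti x c b]; ring
      rw [this, this]
    simp only [not_or] at hdist
    obtain ⟨hbc', hbd, hcd⟩ := hdist
    have key := he.const {f | ∃ b c d : ZMod p, b ≠ c ∧ b ≠ d ∧ c ≠ d ∧
        f = fun a => ((F (e b) (e c) (e d) a : ℤ) : ZMod p)} ?_ ?_ ?_
      (fun a => ((F b c d a : ℤ) : ZMod p)) ⟨e.symm b, e.symm c, e.symm d, e.symm.injective.ne hbc',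
        e.symm.injective.ne hbd, e.symm.injective.ne hcd, by simp⟩ a a'
    · have hdvd := (ZMod.intCast_eq_intCast_iff_dvd_sub _ _ _).mp key
      have h1 := hTle a b c
      have h2' := hTle a c d
      have h3 := hTle a d b
      have h4 := hTle a' b c
      have h5 := hTle a' c d
      have h6 := hTle a' d b
      have hlt : |F b c d a' - F b c d a| < (p : ℤ) := by
        rw [abs_lt]; simp only [F]; constructor <;> omega
      have := Int.eq_zero_of_abs_lt_dvd hdvd hlt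
      omega
    · rintro g _ ⟨b, c, d, hbc, hbd, hcd, rfl⟩
      have hne : ∀ {x y : ZMod p}, x ≠ y → e.symm (g⁻¹ • e x) ≠ e.symm (g⁻¹ • e y) :=
        fun hxy h => hxy (e.injective ((smul_left_cancel_iff g⁻¹).mp (e.symm.injective h)))
      refine ⟨_, _, _, hne hbc, hne hbd, hne hcd, funext fun x => ?_⟩
      simp only [Equiv.apply_symm_apply, F]
      congr 1
      rw [← hTinv g x (g⁻¹ • e b), ← hTinv g x (g⁻¹ • e c), ← hTinv g x (g⁻¹ • e d)]
      simp only [smul_inv_smul]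
    · rintro _ ⟨b, c, d, -, -, -, rfl⟩
      simp only [← Int.cast_sum, hFsum, Int.cast_zero]
    · rintro _ ⟨b, c, d, hbc, hbd, hcd, rfl⟩
      have hb1 := hL hbc
      have hb2 := hL hcd
      have hb3 := hL hbd.symm
      simp only [moment, S] at hb1 hb2 hb3
      simp only [F, Int.cast_add, mul_add, Finset.sum_add_distrib, hb1, hb2, hb3]
      ring
  have hcoc : ∀ a b c d, T a b c + T a c d + T a d b = T b c d := fun a b c d => by
    have h := hFconst b c d a b
    simp only [F, hTfst] at h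
    have h' : T b d b = 0 := by rw [← neg_neg (T b d b), ← hTanti, hTfst, neg_zero]
    rw [h, h']; ring
  have h1 : (p : ℤ) * T a₀ b₀ c₀ = 0 := by
    have h := Finset.sum_congr rfl (fun j (_ : j ∈ (univ : Finset (ZMod p))) => hcoc (e j) a₀ b₀ c₀)
    rw [hFsum] at h
    simpa [ZMod.card] using h.symm
  have h2' : T a₀ b₀ c₀ = 1 := by
    have : R a₀ b₀ c₀ := Tri.refl _ _ _
    have h' : ¬ R a₀ c₀ b₀ := hno
    simp [T, this, h']
  rw [h2', mul_one] at h1
  omega

/-- The stabiliser of two points has at most two orbits on the other points. -/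
theorem tri_two {b₀ c₀ a₁ a₂ a₃ : Ω} (hbc : b₀ ≠ c₀) (h1b : a₁ ≠ b₀) (h1c : a₁ ≠ c₀)
    (h2b : a₂ ≠ b₀) (h2c : a₂ ≠ c₀) (h3b : a₃ ≠ b₀) (h3c : a₃ ≠ c₀) :
    Tri G a₁ b₀ c₀ a₂ b₀ c₀ ∨ Tri G a₁ b₀ c₀ a₃ b₀ c₀ ∨ Tri G a₂ b₀ c₀ a₃ b₀ c₀ := by
  classical
  by_contra! hno
  obtain ⟨h12, h13, h23⟩ := hno
  let D : Ω → Ω → Ω → ZMod p := fun a b c => if a ≠ b ∧ a ≠ c ∧ b ≠ c then 1 else 0
  let k : Ω → ZMod p := fun x => ((univ.filter fun a => Tri G x b₀ c₀ a b₀ c₀).card : ℕ)
  let W : Ω → Ω → Ω → Ω → ZMod p := fun x a b c =>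
    2 * (if Tri G x b₀ c₀ a b c then 1 else 0) + k x * D a b c
  have hD : ∀ (g : G) a b c, D (g • a) (g • b) (g • c) = D a b c := fun g a b c => by
    simp only [D, ne_eq, smul_left_cancel_iff]
  have hW : ∀ x (g : G) a b c, W x (g • a) (g • b) (g • c) = W x a b c := fun x g a b c => by
    simp only [W, hD, Tri.smul_iff]
  have hWsym : ∀ x, x ≠ b₀ → x ≠ c₀ → ∀ a b c, W x a b c = W x a c b := by
    intro x hxb hxc a b c
    have hsw := tri_swap h2 he hp3 hp7 hxb hxc hbc
    have h1 : Tri G x b₀ c₀ a b c ↔ Tri G x b₀ c₀ a c b :=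
      ⟨fun h => hsw.trans h.swap, fun h => hsw.trans h.swap⟩
    have h2' : D a b c = D a c b := by
      simp only [D]; exact if_congr (by tauto) rfl rfl
    simp only [W, h1, h2']
  have hWrow : ∀ x, x ≠ b₀ → x ≠ c₀ → ∀ b c : ZMod p, b ≠ c →
      ∑ j, W x (e j) (e b) (e c) = 0 := by
    intro x hxb hxc b c hne
    have hne' : e b ≠ e c := e.injective.ne hne
    rw [Equiv.sum_comp e (fun a => W x a (e b) (e c))]
    simp only [W, Finset.sum_add_distrib, ← Finset.mul_sum, D, Finset.sum_boole,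
      count_const h2 (fun a b c => Tri G x b₀ c₀ a b c) (fun g a b c => Tri.smul_iff g) hne' hbc]
    rw [show (univ.filter fun a => a ≠ e b ∧ a ≠ e c ∧ e b ≠ e c) = univ \ {e b, e c} by
      ext a; simp [hne']]
    rw [Finset.card_sdiff, Finset.inter_univ, Finset.card_pair hne', Finset.card_univ,
      ← Fintype.card_congr e, ZMod.card, Nat.cast_sub (by omega), ZMod.natCast_self]
    push_cast
    simp only [k]
    ring
  have hWfst : ∀ x, x ≠ b₀ → x ≠ c₀ → ∀ b c, W x b b c = 0 := by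
    intro x hxb hxc b c
    have h1 : ¬ Tri G x b₀ c₀ b b c := fun h => (Tri.ne h).1 hxb rfl
    simp [W, D, h1]
  have hL := fun {x : Ω} (hxb : x ≠ b₀) (hxc : x ≠ c₀) {b c : ZMod p} (h : b ≠ c) =>
    moment_symm he (W x) (hW x) hp3 (hWrow x hxb hxc) (hWsym x hxb hxc) h
  set y := moment e (W a₁) 0 1 with hy
  set z := moment e (W a₂) 0 1 with hz
  let S : Ω → Ω → Ω → ZMod p := fun a b c => z * W a₁ a b c - y * W a₂ a b c
  have hS0 := eq_zero_of_moment he S (fun g a b c => by simp [S, hW])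
    (fun b c h => by simp [S, Finset.sum_sub_distrib, ← Finset.mul_sum, hWrow _ h1b h1c b c h,
      hWrow _ h2b h2c b c h])
    (fun b c => by simp [S, hWfst _ h1b h1c, hWfst _ h2b h2c])
    (fun b c h => by
      have e1 := hL h1b h1c h
      have e2 := hL h2b h2c h
      unfold moment at e1 e2 ⊢
      simp only [S, mul_sub, Finset.sum_sub_distrib, mul_left_comm _ z, mul_left_comm _ y,
        ← Finset.mul_sum]
      rw [e1, e2]
      simp only [hy, hz, moment]
      ring)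
  have hD1 : ∀ {a}, a ≠ b₀ → a ≠ c₀ → D a b₀ c₀ = 1 := fun ha ha' => by simp [D, ha, ha', hbc]
  have n21 : ¬ Tri G a₂ b₀ c₀ a₁ b₀ c₀ := fun h => h12 h.symm
  have e1 := hS0 a₁ b₀ c₀ hbc
  have e2 := hS0 a₂ b₀ c₀ hbc
  have e3 := hS0 a₃ b₀ c₀ hbc
  simp only [S, W, hD1 h1b h1c, hD1 h2b h2c, hD1 h3b h3c, n21, h12, h13, h23, Tri.refl, ↓reduceIte]
    at e1 e2 e3
  have htwo : (2 : ZMod p) ≠ 0 := fun h => by
    have h' : ((2 : ℕ) : ZMod p) = 0 := by exact_mod_cast h
    have := Nat.le_of_dvd two_pos ((ZMod.natCast_eq_zero_iff 2 p).mp h')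
    omega
  have hy0 : y = 0 := (mul_eq_zero.mp (show (2 : ZMod p) * y = 0 by linear_combination e3 - e2)).resolve_left htwo
  have hW0 := eq_zero_of_moment he (W a₁) (hW a₁) (hWrow _ h1b h1c) (hWfst _ h1b h1c)
    (fun b c h => by rw [hL h1b h1c h, ← hy, hy0, mul_zero])
  have f1 := hW0 a₁ b₀ c₀ hbc
  have f3 := hW0 a₃ b₀ c₀ hbc
  simp only [W, hD1 h1b h1c, hD1 h3b h3c, h13, Tri.refl, ↓reduceIte] at f1 f3
  exact htwo (by linear_combination f1 - f3)

end Orbits

end Cfsg.Agent.Lib.PrimeHalf
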